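import Groth.Prelude.Def_DeltaF
import Mathlib.CategoryTheory.Limits.Shapes.BinaryBiproducts
import Mathlib.CategoryTheory.Abelian.Exact
import Mathlib.CategoryTheory.Preadditive.Injective.Basic

/-!
# Effaceable delta-functors are universal
-/

noncomputable section

universe v u v' u'

open CategoryTheory Limits DeltaF

namespace Groth.Agent.DeltaUniv

variable {A : Type u} [Category.{v} A] [Abelian A] {B : Type u'} [Category.{v'} B] [Abelian B]
  (T T' : CohDeltaFunctor A B ℕ)

/-- A monomorphism out of `X` killed by `F (n + 1)`. -/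
structure Eff (n : ℕ) (X : A) where
  /-- the target -/
  Y : A
  u : X ⟶ Y
  mono : Mono u
  zero : (T.F (n + 1)).map u = 0

variable {T}

instance {n : ℕ} {X : A} (e : Eff T n X) : Mono e.u := e.mono

/-- The short exact sequence of an effacement. -/
abbrev Eff.ses {n : ℕ} {X : A} (e : Eff T n X) : ShortComplex A :=
  ShortComplex.mk e.u (cokernel.π e.u) (cokernel.condition _)

lemma Eff.shortExact {n : ℕ} {X : A} (e : Eff T n X) : e.ses.ShortExact where
  exact := ShortComplex.exact_cokernel _
  mono_f := e.mono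
  epi_g := by dsimp [Eff.ses]; infer_instance

/-- The connecting morphism of an effacement. -/
def Eff.δ {n : ℕ} {X : A} (e : Eff T n X) : (T.F n).obj (cokernel e.u) ⟶ (T.F (n + 1)).obj X :=
  T.δ e.ses e.shortExact n (n + 1) rfl

instance {n : ℕ} {X : A} (e : Eff T n X) : Epi e.δ :=
  (T.exact₁ e.ses e.shortExact n (n + 1) rfl).epi_f e.zero

/-- Comparison map between effacements. -/
def Eff.map {n : ℕ} {X X' : A} (e : Eff T n X) (e' : Eff T n X') (f : X ⟶ X') (g : e.Y ⟶ e'.Y)
    (w : f ≫ e'.u = e.u ≫ g) : e.ses ⟶ e'.ses :=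
  ⟨f, g, cokernel.map _ _ f g w.symm, w, (cokernel.π_desc _ _ _).symm⟩

section Step

variable {T'} {n : ℕ} (τ : T.F n ⟶ T'.F n)

/-- The next component computed from an effacement. -/
def Eff.next {X : A} (e : Eff T n X) : (T.F (n + 1)).obj X ⟶ (T'.F (n + 1)).obj X :=
  haveI : Epi (T.δ e.ses e.shortExact n (n + 1) rfl) := inferInstanceAs (Epi e.δ)
  (T.exact₃ e.ses e.shortExact n (n + 1) rfl).desc
    (τ.app _ ≫ T'.δ e.ses e.shortExact n (n + 1) rfl)
    (by
      dsimp
      erw [NatTrans.naturality_assoc, T'.comp_δ e.ses e.shortExact n (n + 1) rfl, comp_zero])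

lemma Eff.δ_next {X : A} (e : Eff T n X) :
    T.δ e.ses e.shortExact n (n + 1) rfl ≫ e.next τ =
      τ.app _ ≫ T'.δ e.ses e.shortExact n (n + 1) rfl :=
  haveI : Epi (T.δ e.ses e.shortExact n (n + 1) rfl) := inferInstanceAs (Epi e.δ)
  (T.exact₃ e.ses e.shortExact n (n + 1) rfl).g_desc _ _

/-- Morphisms into an effacement sequence intertwine the connecting maps with `next`. -/
lemma Eff.next_natural {S : ShortComplex A} (hS : S.ShortExact) {X : A} (e : Eff T n X)
    (φ : S ⟶ e.ses) :
    T.δ S hS n (n + 1) rfl ≫ (T.F (n + 1)).map φ.τ₁ ≫ e.next τ =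
      τ.app _ ≫ T'.δ S hS n (n + 1) rfl ≫ (T'.F (n + 1)).map φ.τ₁ := by
  rw [← Category.assoc, ← T.δ_natural hS e.shortExact φ n (n + 1) rfl, Category.assoc, e.δ_next τ,
    NatTrans.naturality_assoc, T'.δ_natural hS e.shortExact φ n (n + 1) rfl]

lemma Eff.map_next {X X' : A} (e : Eff T n X) (e' : Eff T n X') (f : X ⟶ X') (g : e.Y ⟶ e'.Y)
    (w : f ≫ e'.u = e.u ≫ g) :
    (T.F (n + 1)).map f ≫ e'.next τ = e.next τ ≫ (T'.F (n + 1)).map f := by
  rw [← cancel_epi e.δ]
  refine (e'.next_natural τ e.shortExact (e.map e' f g w)).trans ?_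
  exact (reassoc_of% (e.δ_next τ)) _ |>.symm

/-- The product of two effacements. -/
def Eff.prod {X X' : A} (e : Eff T n X) (e' : Eff T n X') (f : X ⟶ X') : Eff T n X where
  Y := e.Y ⊞ e'.Y
  u := biprod.lift e.u (f ≫ e'.u)
  mono := mono_of_mono_fac (biprod.lift_fst e.u (f ≫ e'.u))
  zero := by
    have : biprod.lift e.u (f ≫ e'.u) = e.u ≫ biprod.inl + (f ≫ e'.u) ≫ biprod.inr := by
      apply biprod.hom_ext <;> simp
    rw [this, Functor.map_add, Functor.map_comp, Functor.map_comp, Functor.map_comp, e.zero,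
      e'.zero]
    simp

lemma Eff.next_nat {X X' : A} (e : Eff T n X) (e' : Eff T n X') (f : X ⟶ X') :
    (T.F (n + 1)).map f ≫ e'.next τ = e.next τ ≫ (T'.F (n + 1)).map f := by
  have h₁ : (e.prod e' f).next τ = e.next τ := by
    have := (e.prod e' f).map_next τ e (𝟙 X) biprod.fst (by simp [Eff.prod])
    simpa using this.symm
  rw [← h₁]
  exact (e.prod e' f).map_next τ e' f biprod.snd (by simp [Eff.prod])

variable (hT : T.IsEffaceable)

/-- A chosen effacement. -/
def eff (m : ℕ) (X : A) : Eff T m X :=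
  ⟨(hT m X).choose, (hT m X).choose_spec.choose, (hT m X).choose_spec.choose_spec.1,
    (hT m X).choose_spec.choose_spec.2⟩

/-- The next natural transformation. -/
def nextTrans : T.F (n + 1) ⟶ T'.F (n + 1) where
  app X := (eff hT n X).next τ
  naturality _ _ f := (eff hT n _).next_nat τ (eff hT n _) f

lemma nextTrans_comm (S : ShortComplex A) (hS : S.ShortExact) :
    T.δ S hS n (n + 1) rfl ≫ (nextTrans τ hT).app S.X₁ =
      τ.app S.X₃ ≫ T'.δ S hS n (n + 1) rfl := by
  haveI := hS.mono_f
  haveI := hS.epi_g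
  let e₂ := eff hT n S.X₂
  let e : Eff T n S.X₁ :=
    ⟨e₂.Y, S.f ≫ e₂.u, mono_comp _ _, by rw [Functor.map_comp, e₂.zero, comp_zero]⟩
  let φ : S ⟶ e.ses :=
    ⟨𝟙 _, e₂.u, hS.exact.desc (e₂.u ≫ cokernel.π e.u)
      (by rw [← Category.assoc]; exact cokernel.condition e.u),
      Category.id_comp _, (hS.exact.g_desc _ _).symm⟩
  have h : (eff hT n S.X₁).next τ = e.next τ := by
    have h0 := (eff hT n S.X₁).next_nat τ e (𝟙 _)
    erw [CategoryTheory.Functor.map_id, CategoryTheory.Functor.map_id, Category.id_comp, Category.comp_id] at h0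
    exact h0.symm
  change T.δ S hS n (n + 1) rfl ≫ (eff hT n S.X₁).next τ = _
  rw [h]
  have := e.next_natural τ hS φ
  erw [CategoryTheory.Functor.map_id, CategoryTheory.Functor.map_id, Category.id_comp, Category.comp_id] at this
  exact this

end Step

variable {T'} in
/-- Effaceable delta-functors are universal. -/
theorem isUniversal (hT : T.IsEffaceable) : T.IsUniversal := by
  intro T' t
  let τ : ∀ n, T.F n ⟶ T'.F n := fun n => Nat.rec t (fun k τ => nextTrans τ hT) n
  refine ⟨{ app := τ, comm := ?_ }, rfl, ?_⟩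
  · rintro S hS n₀ n₁ (rfl : n₀ + 1 = n₁)
    exact nextTrans_comm (τ n₀) hT S hS
  · intro σ hσ
    apply CohDeltaFunctor.hom_ext
    intro n
    induction n with
    | zero => exact hσ
    | succ n ih =>
      ext X
      change (σ.app (n + 1)).app X = (eff hT n X).next (τ n)
      rw [← cancel_epi (eff hT n X).δ]
      refine (σ.comm _ (eff hT n X).shortExact n (n + 1) rfl).trans ?_
      rw [ih]
      exact ((eff hT n X).δ_next (τ n)).symm

/-- Effaceable iff vanishing on injectives in positive degrees. -/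
theorem isEffaceable_iff [EnoughInjectives A] :
    T.IsEffaceable ↔ ∀ (n : ℕ) (I : A), Injective I → IsZero ((T.F (n + 1)).obj I) := by
  constructor
  · intro hT n I hI
    let e := eff hT n I
    have h : 𝟙 I = e.u ≫ Injective.factorThru (𝟙 I) e.u := (Injective.comp_factorThru _ _).symm
    refine (IsZero.iff_id_eq_zero _).mpr ?_
    refine (CategoryTheory.Functor.map_id (T.F (n + 1)) I).symm.trans ?_
    rw [h, Functor.map_comp, e.zero, zero_comp]
  · intro h n X
    exact ⟨Injective.under X, Injective.ι X, inferInstance,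
      (h n _ inferInstance).eq_of_tgt _ _⟩

end Groth.Agent.DeltaUniv
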